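import Groth.Agent.LeadProper.Basic
import Groth.Agent.LeadProper.Supp
import Groth.Agent.LeadDev.Basic
import Groth.Agent.H10Coh.Proper2

/-!
# Finiteness of cohomology for coherent modules with proper support
-/

set_option autoImplicit false
set_option linter.style.haveILetI false

universe u

open AlgebraicGeometry CategoryTheory CategoryTheory.Limits

namespace Groth.Agent.LeadFF

variable {A : Type u} [CommRing A] {X : Scheme.{u}}

/-- A coherent module with support proper over `Spec A`. -/
structure ProperCoh (g : X ⟶ Spec (CommRingCat.of A)) (M : X.Modules) : Prop where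
  coh : Coh.IsCoh M
  supp : ClSub.IsProperOver g (CohB1.support M)

theorem properCoh_of_isProper (g : X ⟶ Spec (CommRingCat.of A)) [IsProper g] {M : X.Modules} (hM : Coh.IsCoh M) :
    ProperCoh g M :=
  ⟨hM, LeadProper.isProperOver_mono ((LeadProper.isProperOver_iff g (𝟙 X) Set.range_id).2 (by
    rw [Category.id_comp]; infer_instance)) (LeadProper.isClosed_support M hM.1 hM.2) (Set.subset_univ _)⟩

theorem finH_of_properCoh [IsNoetherianRing A] (g : X ⟶ Spec (CommRingCat.of A)) [LocallyOfFiniteType g]
    {M : X.Modules} (hM : ProperCoh g M) (p : ℕ) : H10Coh.FinH (H10Coh.toΓ g) M p ⊤ := by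
  obtain ⟨hq, hft⟩ := hM.coh
  let K := Fitt.sheafIdeal M 0
  haveI hp : IsProper (K.subschemeι ≫ g) := (LeadProper.isProperOver_iff g K.subschemeι
    (Scheme.IdealSheafData.range_subschemeι K)).1 ((LeadProper.support_eq_fitt M hq hft) ▸ hM.supp)
  haveI := LeadProper.isIso_unit_of_killedByIdeal M hq K.subschemeι
    (by rw [Scheme.IdealSheafData.ker_subschemeι]; exact LeadProper.killedByIdeal_fitt M hq hft)
  have hG : Coh.IsCoh ((Scheme.Modules.pullback K.subschemeι).obj M) :=
    ⟨H29Fitt.isQCoh_pullback _ M hq, H29Fitt.isFT_pullback _ M hq hft⟩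
  haveI := hG.1
  exact H10Coh.finH_of_iso (H10Coh.toΓ g)
    (asIso ((Scheme.Modules.pullbackPushforwardAdjunction K.subschemeι).unit.app M)).symm
    (H10Coh.finH_push_closed K.subschemeι g _ p (H10Coh.finH_proper (K.subschemeι ≫ g) _ hG p))

/-- Proper support is stable under affine base change and passes to coherent quotients. -/
theorem properCoh_baseChange {S : Type u} [CommRing S] {φ : A →+* S} {g : X ⟶ Spec (CommRingCat.of A)}
    {X' : Scheme.{u}} {q : X' ⟶ X} {g' : X' ⟶ Spec (CommRingCat.of S)}
    (hsq : IsPullback q g' g (Spec.map (CommRingCat.ofHom φ))) [LocallyOfFiniteType g'] {M : X.Modules}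
    (hM : ProperCoh g M) {M' : X'.Modules} (hM' : Coh.IsCoh M') (e : (Scheme.Modules.pullback q).obj M ⟶ M') [Epi e] :
    ProperCoh g' M' := by
  refine ⟨hM', ?_⟩
  obtain ⟨T, i, hi, hr, hp, -⟩ := LeadProper.exists_closedSubscheme hM.supp
  haveI := hi
  have h : IsPullback (pullback.fst i q) (pullback.snd i q ≫ g') (i ≫ g) (Spec.map (CommRingCat.ofHom φ)) :=
    (IsPullback.of_hasPullback i q).paste_vert hsq
  haveI : IsProper (pullback.snd i q ≫ g') := MorphismProperty.of_isPullback (P := @IsProper) h hp
  refine LeadProper.isProperOver_mono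
    ((LeadProper.isProperOver_iff g' (pullback.snd i q) rfl).2 inferInstance)
    (LeadProper.isClosed_support M' hM'.1 hM'.2) ((LeadDev.support_subset_of_epi e).trans ?_)
  rw [LeadProper.support_pullback M hM.coh.1 hM.coh.2, Scheme.Pullback.range_snd, hr]

end Groth.Agent.LeadFF
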