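import Groth.Agent.LeadFF.Coh
import Groth.Agent.H24Adic.Basic
import Mathlib.RingTheory.AdicCompletion.Basic

/-!
# The theorem on formal functions

The `I`-adic completion of `H^p(X, M)` is the limit of the `H^p(X, M/I^(n+1) M)`.
-/

set_option autoImplicit false
set_option linter.style.haveILetI false
set_option linter.unusedSectionVars false

universe u

open AlgebraicGeometry CategoryTheory CategoryTheory.Limits Opposite

namespace Groth.Agent.LeadFF

variable {A : Type u} [CommRing A] {X : Scheme.{u}} [X.Over (Spec (CommRingCat.of A))] (I : Ideal A)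
  (M : X.Modules) (p : ℕ)

theorem pow_smul_le_ker (n : ℕ) :
    (I ^ (n + 1) • (⊤ : Submodule A (Coh.HH X M p))).toAddSubgroup ≤ (Formal.toHHmodPow I M p n).ker := by
  intro x hx
  refine Submodule.smul_induction_on (p := fun x => Formal.toHHmodPow I M p n x = 0) hx (fun a ha y _ => ?_)
    fun a b ha hb => by rw [map_add, ha, hb, add_zero]
  refine (toHH_eq_zero_iff I M p n _).2 ⟨Hm (mulTo I (n + 1) a ha M) p y, ?_⟩
  exact (Hm_comp _ _ p y).symm.trans ((congrArg (fun f => Hm f p y) (mulTo_ι I (n + 1) a ha M)).trans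
    (Hm_smulMod M p a y))

/-- `H/I^(n+1)H → H^p(X, M/I^(n+1) M)`. -/
noncomputable def level (n : ℕ) :
    (Coh.HH X M p ⧸ (I ^ (n + 1) • (⊤ : Submodule A (Coh.HH X M p)))) →+ Formal.HHmodPow I M p n :=
  QuotientAddGroup.lift _ (Formal.toHHmodPow I M p n) (pow_smul_le_ker I M p n)

theorem level_mk (n : ℕ) (x : Coh.HH X M p) :
    level I M p n (Submodule.Quotient.mk x) = Formal.toHHmodPow I M p n x := rfl

theorem trans_toHH (n : ℕ) (x : Coh.HH X M p) :
    Formal.HHmodPowTrans I M p n (Formal.toHHmodPow I M p (n + 1) x) = Formal.toHHmodPow I M p n x :=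
  (Formal.toHHlim I M p x).2 n

/-- The canonical map from the completion. -/
noncomputable def fromCompletion : AdicCompletion I (Coh.HH X M p) →+ Formal.HHlim I M p :=
  AddMonoidHom.mk' (fun x => ⟨fun n => level I M p n (AdicCompletion.eval I _ (n + 1) x), by
    intro n
    obtain ⟨f, rfl⟩ := AdicCompletion.mk_surjective I _ x
    show Formal.HHmodPowTrans I M p n (level I M p (n + 1) (Submodule.Quotient.mk (f (n + 1 + 1)))) =
      level I M p n (Submodule.Quotient.mk (f (n + 1)))
    rw [← AdicCompletion.AdicCauchySequence.mk_eq_mk (Nat.le_succ (n + 1)) f]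
    exact trans_toHH I M p n _⟩) fun x y => by
      refine Subtype.ext (funext fun n => ?_)
      show level I M p n (AdicCompletion.eval I _ (n + 1) (x + y)) = _
      rw [map_add, map_add]
      rfl

theorem fromCompletion_of (x : Coh.HH X M p) :
    fromCompletion I M p (AdicCompletion.of I _ x) = Formal.toHHlim I M p x := rfl

variable [IsNoetherianRing A] [LocallyOfFiniteType (X ↘ Spec (CommRingCat.of A))]

theorem fromCompletion_injective (hM : ProperCoh (X ↘ Spec (CommRingCat.of A)) M) : Function.Injective (fromCompletion I M p) := by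
  obtain ⟨c, hc⟩ := exists_ker_small I M hM p
  refine (injective_iff_map_eq_zero _).2 fun x hx => ?_
  obtain ⟨f, rfl⟩ := AdicCompletion.mk_surjective I _ x
  refine AdicCompletion.mk_zero_of I _ f ⟨0, fun n _ => ⟨n + c + 1, by omega, n + 1, by omega, ?_⟩⟩
  have h := hc (n + c) (by omega) (f (n + c + 1)) (congrFun (congrArg Subtype.val hx) (n + c))
  rwa [show n + c + 1 - c = n + 1 by omega] at h

theorem iterate_compat (z : Formal.HHlim I M p) (n k : ℕ) (h : n ≤ k) :
    Hm ((Formal.completion I M).map (homOfLE h).op) p ((z : ∀ n, Formal.HHmodPow I M p n) k) =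
      (z : ∀ n, Formal.HHmodPow I M p n) n := by
  induction h with
  | refl =>
    rw [show (homOfLE (le_refl n)).op = 𝟙 (op n) from rfl]
    exact (congrArg (fun f => Hm f p _) ((Formal.completion I M).map_id (op n))).trans (Hm_id _ p _)
  | step h ih =>
    rename_i k
    have e : (Formal.completion I M).map (homOfLE (Nat.le.step h)).op =
        Formal.modPowTrans I (k + 1) M ≫ (Formal.completion I M).map (homOfLE h).op := by
      rw [show (homOfLE (Nat.le.step h)).op = (homOfLE (Nat.le_succ k)).op ≫ (homOfLE h).op from rfl,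
        Functor.map_comp]
      exact congrArg (· ≫ (Formal.completion I M).map (homOfLE h).op) (Functor.ofOpSequence_map_homOfLE_succ _ k)
    rw [e]
    exact (Hm_comp (Formal.modPowTrans I (k + 1) M) ((Formal.completion I M).map (homOfLE h).op) p _).trans
      ((congrArg (Hm ((Formal.completion I M).map (homOfLE h).op) p) (z.2 k)).trans ih)

theorem fromCompletion_surjective (hM : ProperCoh (X ↘ Spec (CommRingCat.of A)) M) : Function.Surjective (fromCompletion I M p) := by
  obtain ⟨c₁, hc₁⟩ := exists_ker_small I M hM p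
  obtain ⟨c₂, hc₂⟩ := exists_mittag_leffler I M hM p
  intro z
  have hy : ∀ n, ∃ y, Formal.toHHmodPow I M p n y = (z : ∀ n, Formal.HHmodPow I M p n) n := fun n => by
    obtain ⟨y, hy⟩ := hc₂ n (n + c₂) (Nat.le_add_right _ _) le_rfl ((z : ∀ n, Formal.HHmodPow I M p n) (n + c₂))
    exact ⟨y, hy.trans (iterate_compat I M p z n (n + c₂) _)⟩
  choose y hy using hy
  have hcauchy : ∀ n, y (n + c₁) ≡ y (n + 1 + c₁) [SMOD (I ^ n • ⊤ : Submodule A (Coh.HH X M p))] := by
    intro n
    rw [SModEq.sub_mem]
    have h0 : Formal.toHHmodPow I M p (n + c₁) (y (n + c₁) - y (n + 1 + c₁)) = 0 := by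
      have key : ∀ a b, b = a + 1 → Formal.toHHmodPow I M p a (y b) = (z : ∀ n, Formal.HHmodPow I M p n) a := by
        rintro a _ rfl
        exact ((trans_toHH I M p a _).symm.trans (congrArg _ (hy (a + 1)))).trans (z.2 a)
      rw [map_sub, key (n + c₁) (n + 1 + c₁) (by omega), hy, sub_self]
    exact Submodule.smul_mono_left (Ideal.pow_le_pow_right (by omega)) (hc₁ (n + c₁) (by omega) _ h0)
  refine ⟨AdicCompletion.mk I _ (AdicCompletion.AdicCauchySequence.mk I _ (fun n => y (n + c₁)) hcauchy),
    Subtype.ext (funext fun n => ?_)⟩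
  show Formal.toHHmodPow I M p n (y (n + 1 + c₁)) = _
  have h : n ≤ n + 1 + c₁ := by omega
  rw [← iterate_compat I M p z n (n + 1 + c₁) h, ← hy (n + 1 + c₁)]
  exact ((congrArg (fun f => Hm f p (y (n + 1 + c₁))) (modPowπ_completion_map I M h)).symm.trans (Hm_comp _ _ p _))

theorem fromCompletion_bijective (hM : ProperCoh (X ↘ Spec (CommRingCat.of A)) M) : Function.Bijective (fromCompletion I M p) :=
  ⟨fromCompletion_injective I M p hM, fromCompletion_surjective I M p hM⟩

theorem toHHlim_bijective [IsAdicComplete I A] (hM : ProperCoh (X ↘ Spec (CommRingCat.of A)) M) :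
    Function.Bijective (Formal.toHHlim I M p) := by
  haveI : Module.Finite A (Coh.HH X M p) := (H10Coh.finite_HH_iff_finH M p).2 (finH_of_properCoh _ hM p)
  haveI : IsAdicComplete I (Coh.HH X M p) := H24Adic.isAdicComplete_of_finite I
  exact (fromCompletion_bijective I M p hM).comp
    ⟨AdicCompletion.of_injective I (Coh.HH X M p), AdicCompletion.of_surjective I (Coh.HH X M p)⟩

end Groth.Agent.LeadFF
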