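import Groth.Agent.LeadFF.Gen

/-!
# Consequences of the generation theorem for the maps between the `H^p(X, I^n M)` and `H^p(X, M/I^n M)`
-/

set_option autoImplicit false
set_option linter.style.haveILetI false
set_option linter.unusedSectionVars false

universe u

open AlgebraicGeometry CategoryTheory CategoryTheory.Limits TopologicalSpace Opposite Abelian

namespace Groth.Agent.LeadFF

attribute [local instance 10000] H10Coh.hasSheafifyAb H10Coh.hasWeakSheafifyAb H10Coh.hasExtAb H10Coh.enoughInjAb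

variable {X : Scheme.{u}}

/-- The connecting map. -/
noncomputable def dl {S : ShortComplex X.Modules} (hS : S.ShortExact) (p : ℕ) :
    Coh.HH X S.X₃ p →+ Coh.HH X S.X₁ (p + 1) :=
  AddMonoidHom.mk' (fun x => x.comp (H10Coh.shortExact_sh hS).extClass rfl) fun x y => Ext.add_comp x y _ _

theorem Hm_dl {S : ShortComplex X.Modules} (hS : S.ShortExact) (p : ℕ) (x : Coh.HH X S.X₃ p) :
    Hm S.f (p + 1) (dl hS p x) = 0 := by
  show (x.comp (H10Coh.shortExact_sh hS).extClass rfl).comp (Ext.mk₀ ((H10Coh.shF X).map S.f)) (add_zero _) = 0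
  exact ((Ext.comp_assoc_of_third_deg_zero _ _ _ _).trans
    (congrArg (fun z => x.comp z rfl) (H10Coh.shortExact_sh hS).extClass_comp)).trans (Ext.comp_zero x _ _ _ _)

theorem exists_Hm_f {S : ShortComplex X.Modules} (hS : S.ShortExact) (p : ℕ) (x : Coh.HH X S.X₂ p)
    (hx : Hm S.g p x = 0) : ∃ y, Hm S.f p y = x :=
  Ext.covariant_sequence_exact₂ _ (H10Coh.shortExact_sh hS) x hx

theorem exists_Hm_g {S : ShortComplex X.Modules} (hS : S.ShortExact) (p : ℕ) (x : Coh.HH X S.X₃ p)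
    (hx : dl hS p x = 0) : ∃ y, Hm S.g p y = x :=
  Ext.covariant_sequence_exact₃ _ (H10Coh.shortExact_sh hS) x rfl hx

theorem dl_natural {S₁ S₂ : ShortComplex X.Modules} (h₁ : S₁.ShortExact) (h₂ : S₂.ShortExact) (f : S₁ ⟶ S₂)
    (p : ℕ) (x : Coh.HH X S₁.X₃ p) : dl h₂ p (Hm f.τ₃ p x) = Hm f.τ₁ (p + 1) (dl h₁ p x) := by
  show (x.comp (Ext.mk₀ ((H10Coh.shF X).map f.τ₃)) (add_zero p)).comp (H10Coh.shortExact_sh h₂).extClass rfl =
    (x.comp (H10Coh.shortExact_sh h₁).extClass rfl).comp (Ext.mk₀ ((H10Coh.shF X).map f.τ₁)) (add_zero _)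
  exact ((Ext.comp_assoc_of_second_deg_zero _ _ _ _).trans
    (congrArg (fun z => x.comp z rfl) (ShortComplex.ShortExact.extClass_naturality (H10Coh.shortExact_sh h₁)
      (H10Coh.shortExact_sh h₂) ((H10Coh.shF X).mapShortComplex.map f)).symm)).trans
    (Ext.comp_assoc_of_third_deg_zero _ _ _ _).symm

variable {A : Type u} [CommRing A] [X.Over (Spec (CommRingCat.of A))] (I : Ideal A) (M : X.Modules)

theorem Hm_smulMod' {N : X.Modules} (f : N ⟶ M) (p : ℕ) (a : A) (x : Coh.HH X N p) :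
    Hm (f ≫ Formal.smulMod A M a) p x = a • Hm f p x := by
  rw [Hm_comp, Hm_smulMod]

/-- `0 → I^n M → M → M/I^n M → 0`. -/
noncomputable def powSeq (n : ℕ) : ShortComplex X.Modules :=
  ShortComplex.mk (Formal2.idealPowModι I n M) (Formal.modPowπ I n M) (idealPowModι_π I n M)

theorem powSeq_shortExact (n : ℕ) : (powSeq I M n).ShortExact := by
  haveI : Epi (powSeq I M n).g := inferInstanceAs (Epi (cokernel.π (Formal.smulFamily (I ^ n) M)))
  haveI : Mono (powSeq I M n).f := inferInstanceAs (Mono (kernel.ι (Formal.modPowπ I n M)))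
  exact { exact := ShortComplex.exact_of_f_is_kernel _ (kernelIsKernel (Formal.modPowπ I n M)) }

theorem idealPowIncl_ι {m n : ℕ} (h : m ≤ n) :
    Formal2.idealPowIncl I h M ≫ Formal2.idealPowModι I m M = Formal2.idealPowModι I n M :=
  kernel.lift_ι _ _ _

/-- The map of sequences for `m ≤ n`. -/
noncomputable def powSeqMap {m n : ℕ} (h : m ≤ n) : powSeq I M n ⟶ powSeq I M m :=
  ShortComplex.homMk (Formal2.idealPowIncl I h M) (𝟙 M) (Formal2.modPowLE I h M)
    ((idealPowIncl_ι I M h).trans (Category.comp_id _).symm)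
    ((Category.id_comp _).trans (Formal2.modPowπ_modPowLE I h M).symm)

theorem modPowπ_completion_map {n k : ℕ} (h : n ≤ k) :
    Formal.modPowπ I (k + 1) M ≫ (Formal.completion I M).map (homOfLE h).op = Formal.modPowπ I (n + 1) M := by
  induction h with
  | refl =>
    rw [show (homOfLE (le_refl n)).op = 𝟙 (op n) from rfl, CategoryTheory.Functor.map_id]
    exact Category.comp_id _
  | step h ih =>
    rename_i k
    rw [show (homOfLE (Nat.le.step h)).op = (homOfLE (Nat.le_succ k)).op ≫ (homOfLE h).op from rfl,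
      Functor.map_comp, show (Formal.completion I M).map (homOfLE (Nat.le_succ k)).op = Formal.modPowTrans I (k + 1) M
        from Functor.ofOpSequence_map_homOfLE_succ _ k]
    exact ((Category.assoc _ _ _).symm.trans (congrArg (· ≫ (Formal.completion I M).map (homOfLE h).op) (Formal.modPowπ_trans I (k + 1) M))).trans ih

theorem modPowLE_eq_completion_map {n k : ℕ} (h : n ≤ k) :
    Formal2.modPowLE I (Nat.succ_le_succ h) M = (Formal.completion I M).map (homOfLE h).op := by
  haveI : Epi (Formal.modPowπ I (k + 1) M) := inferInstanceAs (Epi (cokernel.π _))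
  exact (cancel_epi (Formal.modPowπ I (k + 1) M)).1
    ((Formal2.modPowπ_modPowLE I _ M).trans (modPowπ_completion_map I M h).symm)

theorem mulP_incl_eq_smul {c n N : ℕ} (h : n ≤ N) (a₁ b : A) (hb : b ∈ I ^ (n - c))
    (hab : a₁ * b ∈ I ^ (N - c)) :
    mulP I c N (a₁ * b) hab M ≫ Formal2.idealPowIncl I h M =
      mulP I c n b hb M ≫ Formal.smulMod A (Formal2.idealPowMod I n M) a₁ := by
  rw [← cancel_mono (Formal2.idealPowModι I n M), Category.assoc, Category.assoc, idealPowIncl_ι, mulP_ι,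
    ← smulMod_natural, ← Category.assoc, mulP_ι, Category.assoc, smulMod_mul]

theorem mulP_incl_eq_mulTo {c n : ℕ} (a : A) (ha : a ∈ I ^ (n - c)) :
    mulP I c n a ha M ≫ Formal2.idealPowIncl I (Nat.sub_le n c) M =
      Formal2.idealPowModι I c M ≫ mulTo I (n - c) a ha M := by
  rw [← cancel_mono (Formal2.idealPowModι I (n - c) M), Category.assoc, Category.assoc, idealPowIncl_ι, mulP_ι,
    mulTo_ι]

theorem toHH_eq_zero_iff (p k : ℕ) (x : Coh.HH X M p) :
    Formal.toHHmodPow I M p k x = 0 ↔ ∃ y, Hm (Formal2.idealPowModι I (k + 1) M) p y = x := by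
  refine ⟨exists_Hm_f (powSeq_shortExact I M (k + 1)) p x, ?_⟩
  rintro ⟨y, rfl⟩
  show Hm (Formal.modPowπ I (k + 1) M) p (Hm (Formal2.idealPowModι I (k + 1) M) p y) = 0
  rw [← Hm_comp, idealPowModι_π, Hm_zero]

variable [IsNoetherianRing A] [LocallyOfFiniteType (X ↘ Spec (CommRingCat.of A))]

theorem exists_top_gen (hM : ProperCoh (X ↘ Spec (CommRingCat.of A)) M) (p : ℕ) :
    ∃ c, ∀ n, c ≤ n → ∀ x : Coh.HH X (Formal2.idealPowMod I n M) p, x ∈ AddSubgroup.closure
      {z | ∃ a, ∃ ha : a ∈ I ^ (n - c), ∃ y, Hm (mulP I c n a ha M) p y = z} := by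
  obtain ⟨c, hc⟩ := exists_gen I M hM p (fun _ => ⊤) fun _ _ _ _ _ _ _ => trivial
  refine ⟨c, fun n hn x => AddSubgroup.closure_mono ?_ (hc n hn (x := x) trivial)⟩
  rintro z ⟨a, ha, y, -, rfl⟩
  exact ⟨a, ha, y, rfl⟩

theorem exists_kernel_stabilizes (hM : ProperCoh (X ↘ Spec (CommRingCat.of A)) M) (p : ℕ) :
    ∃ c, ∀ n (_ : c ≤ n) (x : Coh.HH X (Formal2.idealPowMod I n M) p), Hm (Formal2.idealPowModι I n M) p x = 0 →
      Hm (Formal2.idealPowIncl I (Nat.sub_le n c) M) p x = 0 := by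
  obtain ⟨c, hc⟩ := exists_gen I M hM p (fun k => (Hm (Formal2.idealPowModι I k M) p).ker) fun k n _ a ha y hy => by
    rw [AddMonoidHom.mem_ker, ← Hm_comp, mulP_ι, Hm_smulMod', AddMonoidHom.mem_ker.1 hy, smul_zero]
  refine ⟨c, fun n hn x hx => ?_⟩
  refine AddSubgroup.closure_induction (p := fun z _ => Hm (Formal2.idealPowIncl I (Nat.sub_le n c) M) p z = 0)
    ?_ (map_zero _) (fun a b _ _ ha hb => by rw [map_add, ha, hb, add_zero])
    (fun a _ ha => by rw [map_neg, ha, neg_zero]) (hc n hn (x := x) hx)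
  rintro z ⟨a, ha, y, hy, rfl⟩
  rw [← Hm_comp, mulP_incl_eq_mulTo, Hm_comp, AddMonoidHom.mem_ker.1 hy, map_zero]

theorem exists_image_bound (hM : ProperCoh (X ↘ Spec (CommRingCat.of A)) M) (p : ℕ) :
    ∃ c, ∀ n m, c ≤ n + m → ∀ x : Coh.HH X (Formal2.idealPowMod I (n + m) M) p,
      Hm (Formal2.idealPowIncl I (Nat.le_add_right n m) M) p x ∈
        I ^ (m - (c - n)) • (⊤ : Submodule A (Coh.HH X (Formal2.idealPowMod I n M) p)) := by
  obtain ⟨c, hc⟩ := exists_top_gen I M hM p
  refine ⟨c, fun n m h x => ?_⟩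
  refine AddSubgroup.closure_induction
    (p := fun z _ => Hm (Formal2.idealPowIncl I (Nat.le_add_right n m) M) p z ∈
      I ^ (m - (c - n)) • (⊤ : Submodule A (Coh.HH X (Formal2.idealPowMod I n M) p)))
    ?_ (by rw [map_zero]; exact zero_mem _) (fun a b _ _ ha hb => by rw [map_add]; exact add_mem ha hb)
    (fun a _ ha => by rw [map_neg]; exact neg_mem ha) (hc (n + m) h x)
  rintro z ⟨a, ha, y, rfl⟩
  have hmem : a ∈ I ^ (m - (c - n)) * I ^ (n - c) := by
    rw [← pow_add, show m - (c - n) + (n - c) = n + m - c by omega]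
    exact ha
  suffices hh : ∃ hh : a ∈ I ^ (n + m - c), Hm (Formal2.idealPowIncl I (Nat.le_add_right n m) M) p
      (Hm (mulP I c (n + m) a hh M) p y) ∈ I ^ (m - (c - n)) • (⊤ : Submodule A _) from hh.choose_spec
  refine Submodule.mul_induction_on hmem (fun a₁ ha₁ b hb => ?_) fun a b ⟨ha, h₁⟩ ⟨hb, h₂⟩ => ?_
  · have hab : a₁ * b ∈ I ^ (n + m - c) := by
      rw [show n + m - c = m - (c - n) + (n - c) by omega, pow_add]
      exact Ideal.mul_mem_mul ha₁ hb
    refine ⟨hab, ?_⟩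
    rw [← Hm_comp, mulP_incl_eq_smul I M _ a₁ b hb, Hm_smulMod']
    exact Submodule.smul_mem_smul ha₁ trivial
  · exact ⟨add_mem ha hb, by rw [mulP_add I M c (n + m) a b ha hb, Hm_add, map_add]; exact add_mem h₁ h₂⟩

theorem exists_ker_small (hM : ProperCoh (X ↘ Spec (CommRingCat.of A)) M) (p : ℕ) :
    ∃ c, ∀ n, c ≤ n + 1 → ∀ x : Coh.HH X M p, Formal.toHHmodPow I M p n x = 0 →
      x ∈ I ^ (n + 1 - c) • (⊤ : Submodule A (Coh.HH X M p)) := by
  obtain ⟨c, hc⟩ := exists_top_gen I M hM p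
  refine ⟨c, fun n hn x hx => ?_⟩
  obtain ⟨y, rfl⟩ := (toHH_eq_zero_iff I M p n x).1 hx
  refine AddSubgroup.closure_induction
    (p := fun z _ => Hm (Formal2.idealPowModι I (n + 1) M) p z ∈
      I ^ (n + 1 - c) • (⊤ : Submodule A (Coh.HH X M p)))
    ?_ (by rw [map_zero]; exact zero_mem _) (fun a b _ _ ha hb => by rw [map_add]; exact add_mem ha hb)
    (fun a _ ha => by rw [map_neg]; exact neg_mem ha) (hc (n + 1) hn y)
  rintro z ⟨a, ha, w, rfl⟩
  rw [← Hm_comp, mulP_ι, Hm_smulMod']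
  exact Submodule.smul_mem_smul ha trivial

theorem exists_ker_filtration (hM : ProperCoh (X ↘ Spec (CommRingCat.of A)) M) (p : ℕ) :
    ∃ k₀, ∀ k, k₀ ≤ k → ∀ x : Coh.HH X M p, Formal.toHHmodPow I M p (k + 1) x = 0 ↔
      x ∈ I • Submodule.span A ((Formal.toHHmodPow I M p k).ker : Set (Coh.HH X M p)) := by
  obtain ⟨c, hc⟩ := exists_top_gen I M hM p
  refine ⟨c, fun k hk x => ⟨fun hx => ?_, fun hx => ?_⟩⟩
  · obtain ⟨y, rfl⟩ := (toHH_eq_zero_iff I M p (k + 1) x).1 hx
    refine AddSubgroup.closure_induction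
      (p := fun z _ => Hm (Formal2.idealPowModι I (k + 2) M) p z ∈
        I • Submodule.span A ((Formal.toHHmodPow I M p k).ker : Set (Coh.HH X M p)))
      ?_ (by rw [map_zero]; exact zero_mem _) (fun a b _ _ ha hb => by rw [map_add]; exact add_mem ha hb)
      (fun a _ ha => by rw [map_neg]; exact neg_mem ha) (hc (k + 1 + 1) (by omega) y)
    rintro z ⟨a, ha, w, rfl⟩
    rw [← Hm_comp, mulP_ι, Hm_smulMod']
    have hmem : a ∈ I * I ^ (k + 1 - c) := by
      rw [← pow_succ', show k + 1 - c + 1 = k + 1 + 1 - c by omega]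
      exact ha
    refine Submodule.mul_induction_on hmem (fun i hi b hb => ?_) fun a b ha hb => ?_
    · rw [mul_smul]
      refine Submodule.smul_mem_smul hi (Submodule.subset_span ((toHH_eq_zero_iff I M p k _).2
        ⟨Hm (mulP I c (k + 1) b hb M) p w, ?_⟩))
      rw [← Hm_comp, mulP_ι, Hm_smulMod']
    · rw [add_smul]; exact add_mem ha hb
  · refine Submodule.smul_induction_on hx (fun i hi r hr => ?_) fun a b ha hb => by rw [map_add, ha, hb, add_zero]
    induction hr using Submodule.span_induction generalizing i with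
    | zero => rw [smul_zero, map_zero]
    | add a b _ _ ha hb => rw [smul_add, map_add, ha i hi, hb i hi, add_zero]
    | smul b r _ hr =>
      rw [smul_smul]
      exact hr (i * b) (I.mul_mem_right b hi)
    | mem r hr =>
      obtain ⟨y, rfl⟩ := (toHH_eq_zero_iff I M p k r).1 hr
      have hi' : i ∈ I ^ (k + 1 + 1 - (k + 1)) := by rwa [Nat.add_sub_cancel_left, pow_one]
      refine (toHH_eq_zero_iff I M p (k + 1) _).2 ⟨Hm (mulP I (k + 1) (k + 1 + 1) i hi' M) p y, ?_⟩
      rw [← Hm_comp, mulP_ι, Hm_smulMod']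

theorem exists_mittag_leffler (hM : ProperCoh (X ↘ Spec (CommRingCat.of A)) M) (p : ℕ) :
    ∃ c, ∀ n k (h : n ≤ k), n + c ≤ k → ∀ x : Formal.HHmodPow I M p k,
      ∃ y, Formal.toHHmodPow I M p n y = Hm ((Formal.completion I M).map (homOfLE h).op) p x := by
  obtain ⟨c, hc⟩ := exists_kernel_stabilizes I M hM (p + 1)
  refine ⟨c, fun n k h hk x => ?_⟩
  refine exists_Hm_g (powSeq_shortExact I M (n + 1)) p _ ?_
  have h2 : n + 1 ≤ k + 1 - c := by omega
  rw [← modPowLE_eq_completion_map I M h]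
  refine (dl_natural (powSeq_shortExact I M (k + 1)) (powSeq_shortExact I M (n + 1))
    (powSeqMap I M (Nat.succ_le_succ h)) p x).trans ?_
  have hfac : Formal2.idealPowIncl I (Nat.succ_le_succ h) M =
      Formal2.idealPowIncl I (Nat.sub_le (k + 1) c) M ≫ Formal2.idealPowIncl I h2 M := by
    rw [← cancel_mono (Formal2.idealPowModι I (n + 1) M), Category.assoc, idealPowIncl_ι, idealPowIncl_ι,
      idealPowIncl_ι]
  show Hm (Formal2.idealPowIncl I (Nat.succ_le_succ h) M) (p + 1) _ = 0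
  rw [hfac]
  exact ((Hm_comp _ _ _ _).trans (congrArg _ (hc (k + 1) (by omega) _ (Hm_dl (powSeq_shortExact I M (k + 1)) p x)))).trans (map_zero _)

end Groth.Agent.LeadFF
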