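import Groth.Agent.LeadFF.Coeff
import Groth.Agent.LeadFF.ProperSupp
import Groth.Agent.H10Coh.AffinePush
import Groth.Agent.H29Fitt.PullbackQCoh

/-!
# Generation of stable families in the cohomology of the `I^n M`

For a coherent `M` on `X` proper over a Noetherian `A`, every family of subgroups of `H^p(X, I^n M)` stable under
the multiplications by the powers of `I` is generated in bounded degree: `H^p(X, q_* M')` is finite over the
Rees algebra.
-/

set_option autoImplicit false
set_option linter.style.haveILetI false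
set_option linter.unusedSectionVars false

universe u

open AlgebraicGeometry CategoryTheory CategoryTheory.Limits TopologicalSpace Opposite

namespace Groth.Agent.LeadFF

variable {A : Type u} [CommRing A] {X : Scheme.{u}}

/-- The map on cohomology of a morphism of modules. -/
noncomputable abbrev Hm {M N : X.Modules} (f : M ⟶ N) (p : ℕ) : Coh.HH X M p →+ Coh.HH X N p :=
  Sheaf.H.map ((SheafOfModules.toSheaf _).map f) p

theorem Hm_comp {M N K : X.Modules} (f : M ⟶ N) (g : N ⟶ K) (p : ℕ) (x : Coh.HH X M p) :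
    Hm (f ≫ g) p x = Hm g p (Hm f p x) :=
  (congrArg (fun φ => Sheaf.H.map φ p x) ((H10Coh.shF X).map_comp f g)).trans (Sheaf.H.map_comp_apply _ _ _)

theorem Hm_id (M : X.Modules) (p : ℕ) (x : Coh.HH X M p) : Hm (𝟙 M) p x = x :=
  (congrArg (fun φ => Sheaf.H.map φ p x) ((H10Coh.shF X).map_id M)).trans (Sheaf.H.map_id_apply _)

theorem Hm_add {M N : X.Modules} (f g : M ⟶ N) (p : ℕ) (x : Coh.HH X M p) :
    Hm (f + g) p x = Hm f p x + Hm g p x :=
  (congrArg (fun φ => Sheaf.H.map φ p x) ((H10Coh.shF X).map_add)).trans (Sheaf.H.map_add_apply _ _ _)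

theorem Hm_zero {M N : X.Modules} (p : ℕ) (x : Coh.HH X M p) : Hm (0 : M ⟶ N) p x = 0 := by
  have h := Hm_add (0 : M ⟶ N) 0 p x
  rw [add_zero] at h
  exact left_eq_add.1 h

variable [X.Over (Spec (CommRingCat.of A))] (I : Ideal A) (M : X.Modules)

theorem Hm_smulMod (p : ℕ) (a : A) (x : Coh.HH X M p) : Hm (Formal.smulMod A M a) p x = a • x := rfl

theorem smulMod_add (a b : A) : Formal.smulMod A M (a + b) = Formal.smulMod A M a + Formal.smulMod A M b :=
  hom_ext_sections _ _ fun U m => by
    show scal (X ↘ Spec (CommRingCat.of A)) U (a + b) • m = _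
    rw [map_add, add_smul]
    rfl

theorem mulP_add (k n : ℕ) (a b : A) (ha : a ∈ I ^ (n - k)) (hb : b ∈ I ^ (n - k)) :
    mulP I k n (a + b) (add_mem ha hb) M = mulP I k n a ha M + mulP I k n b hb M := by
  rw [← cancel_mono (Formal2.idealPowModι I n M), Preadditive.add_comp, mulP_ι, mulP_ι, mulP_ι, smulMod_add,
    Preadditive.comp_add]

/-- The Rees algebra acts on the cohomology of `q_* M'`. -/
@[implicit_reducible]
noncomputable def modT (p : ℕ) : Module (Rees I) (Coh.HH X (T I M) p) where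
  smul s x := Hm (act I M s) p x
  one_smul x := show Hm (act I M 1) p x = x by rw [act_one, Hm_id]
  mul_smul s t x := show Hm (act I M (s * t)) p x = Hm (act I M s) p (Hm (act I M t) p x) by rw [act_mul, Hm_comp]
  smul_zero s := (Hm (act I M s) p).map_zero
  smul_add s := (Hm (act I M s) p).map_add
  add_smul s t x := show Hm (act I M (s + t)) p x = Hm (act I M s) p x + Hm (act I M t) p x by rw [act_add, Hm_add]
  zero_smul x := show Hm (act I M 0) p x = 0 by
    have h := act_add I M 0 0
    rw [add_zero] at h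
    rw [left_eq_add.1 h, Hm_zero]

theorem finite_T [IsNoetherianRing A] [LocallyOfFiniteType (X ↘ Spec (CommRingCat.of A))]
    (hM : ProperCoh (X ↘ Spec (CommRingCat.of A)) M) (p : ℕ) :
    letI := modT I M p
    Module.Finite (Rees I) (Coh.HH X (T I M) p) := by
  letI := modT I M p
  haveI : IsNoetherianRing (Rees I) := Algebra.FiniteType.isNoetherianRing A (Rees I)
  haveI : IsLocallyNoetherian (XR I X) := LocallyOfFiniteType.isLocallyNoetherian (gR I X)
  haveI := isAffineHom_fst (sqR I X)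
  have hM' : Coh.IsCoh (M' I M) := by
    have hq : Coh.IsCoh ((Scheme.Modules.pullback (q I X)).obj M) :=
      ⟨H29Fitt.isQCoh_pullback _ M hM.coh.1, H29Fitt.isFT_pullback _ M hM.coh.1 hM.coh.2⟩
    haveI : (Nt I M).IsQuasicoherent := H29Fitt.isQCoh_pullback _ M hM.coh.1
    haveI : IsAffineHom (hT I X) := by
      haveI := isAffineHom_fst (sqT I X)
      exact MorphismProperty.of_postcomp (W := @IsAffineHom) (W' := @IsSeparated) (hT I X) (q I X)
        inferInstance inferInstance
    haveI := H10Coh.isQuasicoherent_pushforward_of_isAffineHom (hT I X) (Nt I M)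
    haveI := hq.1
    exact H10Coh.isCoh_of_iso (Abelian.coimageIsoImage (η I M))
      (H10Coh.isCoh_cokernel (kernel.ι (η I M)) (H10Coh.isQuasicoherent_kernel (η I M)) hq)
  haveI : (M' I M).IsQuasicoherent := hM'.1
  have hfin := finH_of_properCoh (gR I X)
    (properCoh_baseChange (sqR I X) hM hM' (Abelian.factorThruImage (η I M))) p
  let τ : H10Coh.ActSh (Rees I) (H10Coh.sh (T I M)) :=
    { s := fun a => (CohTop.push (q I X).base).map ((H10Coh.actM (glob (gR I X)) (M' I M)).s a)
      s_one := by rw [(H10Coh.actM (glob (gR I X)) (M' I M)).s_one]; exact (CohTop.push (q I X).base).map_id _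
      s_mul := fun a b => by
        rw [(H10Coh.actM (glob (gR I X)) (M' I M)).s_mul]; exact (CohTop.push (q I X).base).map_comp _ _
      s_add := fun a b => by
        rw [(H10Coh.actM (glob (gR I X)) (M' I M)).s_add]; exact (CohTop.push (q I X).base).map_add }
  have hT : τ.Fin p ⊤ := ((H10Coh.MRes.inj (M' I M)).toF.fin_push (q I X).base
    (H10Coh.epi_push_of_isAffineHom (q I X) (M' I M)) (H10Coh.actM (glob (gR I X)) (M' I M)) τ
    (fun a => H10Coh.mResSmul (H10Coh.MRes.inj (M' I M)) (glob (gR I X) a)) (fun _ => rfl) (fun _ => rfl) p ⊤).2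
    hfin
  letI := τ.mod p ⊤
  haveI : Module.Finite (Rees I) (H10Coh.HnM (T I M) p ⊤) := hT
  let e : Coh.HH X (T I M) p ≃ₗ[Rees I] H10Coh.HnM (T I M) p ⊤ :=
    { H10Coh.HHEquiv (T I M) p with
      map_smul' := fun a x => H10Coh.topEquiv_map _ p x }
  exact Module.Finite.equiv e.symm

theorem eq_sum_mon (t : Rees I) : t = ∑ i ∈ t.1.support, mon I i (t.1.coeff i) (t.2 i) := by
  refine Subtype.ext ?_
  rw [AddSubmonoidClass.coe_finsetSum]
  exact (Polynomial.as_sum_support t.1)

/-- A stable family is generated in bounded degree. -/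
theorem exists_gen [IsNoetherianRing A] [LocallyOfFiniteType (X ↘ Spec (CommRingCat.of A))]
    (hM : ProperCoh (X ↘ Spec (CommRingCat.of A)) M) (p : ℕ)
    (S : ∀ k, AddSubgroup (Coh.HH X (Formal2.idealPowMod I k M) p))
    (hS : ∀ k n (_ : k ≤ n) a (ha : a ∈ I ^ (n - k)), ∀ y ∈ S k, Hm (mulP I k n a ha M) p y ∈ S n) :
    ∃ c, ∀ n, c ≤ n → S n ≤ AddSubgroup.closure
      {z | ∃ a, ∃ ha : a ∈ I ^ (n - c), ∃ y ∈ S c, Hm (mulP I c n a ha M) p y = z} := by
  letI := modT I M p
  haveI := finite_T I M hM p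
  haveI : IsNoetherianRing (Rees I) := Algebra.FiniteType.isNoetherianRing A (Rees I)
  let G : Set (Coh.HH X (T I M) p) := {z | ∃ k, ∃ y ∈ S k, Hm (ι I M k) p y = z}
  obtain ⟨s, hs, hsp⟩ := (Submodule.fg_span_iff_fg_span_finset_subset G).1 (IsNoetherian.noetherian (Submodule.span (Rees I) G))
  choose deg y hy hyeq using fun z : (s : Set (Coh.HH X (T I M) p)) => hs z.2
  refine ⟨Finset.univ.sup deg, fun n hn x hx => ?_⟩
  set c := Finset.univ.sup deg with hc
  set Cl := AddSubgroup.closure {z | ∃ a, ∃ ha : a ∈ I ^ (n - c), ∃ y ∈ S c, Hm (mulP I c n a ha M) p y = z}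
  have hterm : ∀ k (_ : k ≤ c) (w : Coh.HH X (Formal2.idealPowMod I k M) p), w ∈ S k →
      ∀ a (ha : a ∈ I ^ (n - k)), Hm (mulP I k n a ha M) p w ∈ Cl := by
    intro k hk w hw a ha
    have hmem : a ∈ I ^ (n - c) * I ^ (c - k) := by
      rw [← pow_add, show n - c + (c - k) = n - k by omega]
      exact ha
    suffices h : ∃ h : a ∈ I ^ (n - k), Hm (mulP I k n a h M) p w ∈ Cl from h.choose_spec
    refine Submodule.mul_induction_on hmem (fun b hb b' hb' => ?_) fun b b' ⟨hb, h₁⟩ ⟨hb', h₂⟩ => ?_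
    · have hbb : b * b' ∈ I ^ (n - k) := by
        rw [show n - k = n - c + (c - k) by omega, pow_add]
        exact Ideal.mul_mem_mul hb hb'
      refine ⟨hbb, AddSubgroup.subset_closure ⟨b, hb, Hm (mulP I k c b' hb' M) p w, hS k c hk b' hb' w hw, ?_⟩⟩
      rw [← Hm_comp, mulP_comp I k c n b' hb' b hb hbb]
    · exact ⟨add_mem hb hb', by rw [mulP_add I M k n b b' hb hb', Hm_add]; exact add_mem h₁ h₂⟩
  have key : ∀ z ∈ Submodule.span (Rees I) (s : Set (Coh.HH X (T I M) p)), ∀ t : Rees I,
      Hm (π I M hM.coh.1 n) p (t • z) ∈ Cl := by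
    intro z hz
    induction hz using Submodule.span_induction with
    | zero => intro t; rw [smul_zero, map_zero]; exact zero_mem _
    | add a b _ _ ha hb => intro t; rw [smul_add, map_add]; exact add_mem (ha t) (hb t)
    | smul r z _ hz => intro t; rw [smul_smul]; exact hz _
    | mem z hz =>
      intro t
      rw [eq_sum_mon I t, Finset.sum_smul, map_sum]
      refine sum_mem fun i _ => ?_
      show Hm (π I M hM.coh.1 n) p (Hm (act I M _) p z) ∈ Cl
      have hz' := hyeq ⟨z, hz⟩
      have hk : deg ⟨z, hz⟩ ≤ c := Finset.le_sup (Finset.mem_univ _)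
      have ha' : t.1.coeff i ∈ I ^ (i + deg ⟨z, hz⟩ - deg ⟨z, hz⟩) := by
        rw [Nat.add_sub_cancel]; exact t.2 i
      rw [← show Hm (ι I M (deg ⟨z, hz⟩)) p (y ⟨z, hz⟩) = z from hz', ← Hm_comp, ← Hm_comp,
        ← Category.assoc, ι_act I M i _ _ (t.2 i) ha', Category.assoc]
      by_cases he : i + deg ⟨z, hz⟩ = n
      · subst he
        rw [ι_π_self, Category.comp_id]
        exact hterm _ hk _ (hy ⟨z, hz⟩) _ ha'
      · rw [ι_π_ne I M hM.coh.1 he, comp_zero, Hm_zero]
        exact zero_mem _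
  have hfin : Hm (ι I M n) p x ∈ Submodule.span (Rees I) (s : Set (Coh.HH X (T I M) p)) := by
    rw [← hsp]
    exact Submodule.subset_span ⟨n, x, hx, rfl⟩
  have h := key _ hfin 1
  rwa [one_smul, ← Hm_comp, ι_π_self, Hm_id] at h

end Groth.Agent.LeadFF
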