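import Groth.Agent.LeadFF.BaseChange
import Groth.Agent.H10Coh.AffinePush
import Groth.Agent.H10Coh.QCohOps
import Groth.Agent.H10Coh.FinType2
import Groth.Prelude.Def_Formal2
import Groth.Prelude.Def_Omega4
import Mathlib.RingTheory.ReesAlgebra

/-!
# The Rees scheme of `X` and the graded pieces of its coherent module

For `X` over `Spec A`, an ideal `I` and a module `M`: `q : X_R → X` is the base change to the Rees algebra
`R = ⊕ I^n t^n`, `r : X_t → X` the one to `A[t]`, and `M'` the image of `q^* M` in the direct image of `r^* M`.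
Then `q_* M'` has inclusions of and projections to all `I^n M`, compatible with the multiplication.
-/

set_option autoImplicit false
set_option linter.style.haveILetI false
set_option linter.unusedSectionVars false

universe u

open AlgebraicGeometry CategoryTheory CategoryTheory.Limits TopologicalSpace Opposite

namespace Groth.Agent.LeadFF

section general

variable {X : Scheme.{u}}

/-- Morphisms agreeing on affine opens are equal. -/
theorem hom_ext_affine {M N : X.Modules} (a b : M ⟶ N)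
    (h : ∀ U : X.Opens, IsAffineOpen U → ∀ s, a.app U s = b.app U s) : a = b := by
  refine Scheme.Modules.hom_ext _ _ fun O => ConcreteCategory.hom_ext _ _ fun s => ?_
  refine TopCat.Sheaf.eq_of_locally_eq' (H10Coh.sheafOf N)
    (fun V : {V : X.Opens // IsAffineOpen V ∧ V ≤ O} => V.1) O (fun V => homOfLE V.2.2) ?_ _ _ fun V => ?_
  · intro x hx
    obtain ⟨V, hV, hxV, hle⟩ := exists_isAffineOpen_mem_and_subset (U := O) hx
    exact Opens.mem_iSup.2 ⟨⟨V, hV, hle⟩, hxV⟩
  · exact (congr($((Scheme.Modules.Hom.mapPresheaf a).naturality (homOfLE V.2.2).op) s)).symm.trans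
      ((h V.1 V.2.1 _).trans (congr($((Scheme.Modules.Hom.mapPresheaf b).naturality (homOfLE V.2.2).op) s)))

theorem hom_ext_sections {M N : X.Modules} (a b : M ⟶ N)
    (h : ∀ (U : X.Opens) (s : Γ(M, U)), a.app U s = b.app U s) : a = b :=
  Scheme.Modules.hom_ext _ _ fun U => ConcreteCategory.hom_ext _ _ (h U)

theorem smulModΓ_app (M : X.Modules) (r : Γ(X, ⊤)) (U : X.Opens) (m : Γ(M, U)) :
    (Formal.smulModΓ M r).app U m = X.presheaf.map (homOfLE (le_top : U ≤ ⊤)).op r • m := rfl

variable {A : Type u} [CommRing A] [X.Over (Spec (CommRingCat.of A))]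

theorem smulMod_app (M : X.Modules) (a : A) (U : X.Opens) (m : Γ(M, U)) :
    (Formal.smulMod A M a).app U m = scal (X ↘ Spec (CommRingCat.of A)) U a • m := rfl

theorem idealPowModι_π (I : Ideal A) (n : ℕ) (M : X.Modules) :
    Formal2.idealPowModι I n M ≫ Formal.modPowπ I n M = 0 := kernel.condition _

theorem smulMod_π (I : Ideal A) {n : ℕ} {a : A} (ha : a ∈ I ^ n) (M : X.Modules) :
    Formal.smulMod A M a ≫ Formal.modPowπ I n M = 0 := by
  have h := congrArg (fun f => Sigma.ι (fun _ : (I ^ n : Ideal A) => M) ⟨a, ha⟩ ≫ f)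
    (cokernel.condition (Formal.smulFamily (I ^ n) M))
  simp only [Formal.smulFamily, Sigma.ι_desc_assoc] at h
  exact h

/-- Multiplication by `a ∈ I^n` as a map `M ⟶ I^n M`. -/
noncomputable def mulTo (I : Ideal A) (n : ℕ) (a : A) (ha : a ∈ I ^ n) (M : X.Modules) :
    M ⟶ Formal2.idealPowMod I n M :=
  kernel.lift _ (Formal.smulMod A M a) (smulMod_π I ha M)

theorem mulTo_ι (I : Ideal A) (n : ℕ) (a : A) (ha : a ∈ I ^ n) (M : X.Modules) :
    mulTo I n a ha M ≫ Formal2.idealPowModι I n M = Formal.smulMod A M a :=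
  kernel.lift_ι _ _ _

/-- Maps out of `I^n M` are determined by their composites with the multiplications. -/
theorem idealPowMod_hom_ext (I : Ideal A) (n : ℕ) (M : X.Modules) {N : X.Modules}
    (f₁ f₂ : Formal2.idealPowMod I n M ⟶ N)
    (h : ∀ a (ha : a ∈ I ^ n), mulTo I n a ha M ≫ f₁ = mulTo I n a ha M ≫ f₂) : f₁ = f₂ := by
  haveI : Epi (Abelian.factorThruImage (Formal.smulFamily (I ^ n) M)) := inferInstance
  refine (cancel_epi (Abelian.factorThruImage (Formal.smulFamily (I ^ n) M))).1 ?_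
  refine Sigma.hom_ext _ _ fun a => ?_
  have hcomp : Sigma.ι (fun _ : (I ^ n : Ideal A) => M) a ≫ Abelian.factorThruImage (Formal.smulFamily (I ^ n) M) =
      mulTo I n a.1 a.2 M := by
    refine (cancel_mono (Abelian.image.ι (Formal.smulFamily (I ^ n) M))).1 ?_
    exact (Category.assoc _ _ _).trans ((congrArg (Sigma.ι _ a ≫ ·) (Abelian.image.fac _)).trans
      ((Sigma.ι_desc _ _).trans (mulTo_ι I n a.1 a.2 M).symm))
  exact ((Category.assoc _ _ _).symm.trans (congrArg (fun z : M ⟶ Formal2.idealPowMod I n M => z ≫ f₁) hcomp)).trans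
    ((h a.1 a.2).trans
      ((Category.assoc _ _ _).symm.trans (congrArg (fun z : M ⟶ Formal2.idealPowMod I n M => z ≫ f₂) hcomp)).symm)

theorem smulMod_natural {M N : X.Modules} (f : M ⟶ N) (a : A) :
    f ≫ Formal.smulMod A N a = Formal.smulMod A M a ≫ f :=
  hom_ext_sections _ _ fun U m => (Scheme.Modules.Hom.app_smul f (scal _ U a) m).symm

/-- Multiplication by `a ∈ I^(n-k)` as a map `I^k M ⟶ I^n M`. -/
noncomputable def mulP (I : Ideal A) (k n : ℕ) (a : A) (ha : a ∈ I ^ (n - k)) (M : X.Modules) :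
    Formal2.idealPowMod I k M ⟶ Formal2.idealPowMod I n M :=
  kernel.lift _ (Formal2.idealPowModι I k M ≫ Formal.smulMod A M a) (by
    refine idealPowMod_hom_ext I k M _ _ fun b hb => ?_
    rw [comp_zero, Category.assoc, ← Category.assoc (mulTo I k b hb M), mulTo_ι, ← Category.assoc]
    have hmul : Formal.smulMod A M b ≫ Formal.smulMod A M a = Formal.smulMod A M (a * b) :=
      hom_ext_sections _ _ fun U m => by
        show (scal (X ↘ Spec (CommRingCat.of A)) U a • (scal (X ↘ Spec (CommRingCat.of A)) U b • m) : Γ(M, U)) =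
          scal (X ↘ Spec (CommRingCat.of A)) U (a * b) • m
        rw [smul_smul, ← map_mul]
    exact (congrArg (· ≫ Formal.modPowπ I n M) hmul).trans
      (smulMod_π I (Ideal.pow_le_pow_right (by omega : n ≤ n - k + k)
        (pow_add I (n - k) k ▸ Ideal.mul_mem_mul ha hb)) M))

theorem mulP_ι (I : Ideal A) (k n : ℕ) (a : A) (ha : a ∈ I ^ (n - k)) (M : X.Modules) :
    mulP I k n a ha M ≫ Formal2.idealPowModι I n M = Formal2.idealPowModι I k M ≫ Formal.smulMod A M a :=
  kernel.lift_ι _ _ _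

theorem smulMod_mul (M : X.Modules) (a b : A) :
    Formal.smulMod A M b ≫ Formal.smulMod A M a = Formal.smulMod A M (a * b) :=
  hom_ext_sections _ _ fun U m => by
    show (scal (X ↘ Spec (CommRingCat.of A)) U a • (scal (X ↘ Spec (CommRingCat.of A)) U b • m) : Γ(M, U)) =
      scal (X ↘ Spec (CommRingCat.of A)) U (a * b) • m
    rw [smul_smul, ← map_mul]

theorem mulP_comp (I : Ideal A) (k c n : ℕ) (b : A) (hb : b ∈ I ^ (c - k)) (a : A) (ha : a ∈ I ^ (n - c))
    (hab : a * b ∈ I ^ (n - k)) (M : X.Modules) :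
    mulP I k c b hb M ≫ mulP I c n a ha M = mulP I k n (a * b) hab M := by
  rw [← cancel_mono (Formal2.idealPowModι I n M), Category.assoc, mulP_ι, ← Category.assoc, mulP_ι,
    Category.assoc, mulP_ι, smulMod_mul]

end general

/-! ## The construction -/

section construction

variable {A : Type u} [CommRing A] (I : Ideal A) {X : Scheme.{u}} [X.Over (Spec (CommRingCat.of A))]

/-- The Rees algebra. -/
abbrev Rees : Type u := ↥(reesAlgebra I)

/-- Its structure map. -/
noncomputable abbrev φR : A →+* Rees I := algebraMap A (Rees I)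

/-- The structure map of the polynomial ring. -/
noncomputable abbrev φT : A →+* Polynomial A := algebraMap A (Polynomial A)

/-- The inclusion. -/
noncomputable abbrev ψ : Rees I →+* Polynomial A := (reesAlgebra I).val.toRingHom

theorem ψ_φR (a : A) : ψ I (φR I a) = φT a := rfl

variable (X)

/-- `X ×_A R`. -/
noncomputable abbrev XR : Scheme.{u} :=
  pullback (X ↘ Spec (CommRingCat.of A)) (Spec.map (CommRingCat.ofHom (φR I)))

/-- `X ×_A A[t]`. -/
noncomputable abbrev XT (A : Type u) [CommRing A] (X : Scheme.{u}) [X.Over (Spec (CommRingCat.of A))] : Scheme.{u} :=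
  pullback (X ↘ Spec (CommRingCat.of A)) (Spec.map (CommRingCat.ofHom (φT (A := A))))

/-- The projection. -/
noncomputable abbrev q : XR I X ⟶ X := pullback.fst _ _

/-- The structure map of `X_R`. -/
noncomputable abbrev gR : XR I X ⟶ Spec (CommRingCat.of (Rees I)) := pullback.snd _ _

/-- The structure map of `X_t`. -/
noncomputable abbrev gT : XT A X ⟶ Spec (CommRingCat.of (Polynomial A)) := pullback.snd _ _

/-- The comparison `X_t → X_R`. -/
noncomputable def hT : XT A X ⟶ XR I X :=
  pullback.lift (pullback.fst _ _) (gT X ≫ Spec.map (CommRingCat.ofHom (ψ I))) (by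
    rw [Category.assoc, ← Spec.map_comp, pullback.condition]
    rfl)

/-- The projection of `X_t`. -/
noncomputable abbrev r : XT A X ⟶ X := hT I X ≫ q I X

theorem sqR : IsPullback (q I X) (gR I X) (X ↘ Spec (CommRingCat.of A)) (Spec.map (CommRingCat.ofHom (φR I))) :=
  IsPullback.of_hasPullback _ _

theorem sqT : IsPullback (r I X) (gT X) (X ↘ Spec (CommRingCat.of A)) (Spec.map (CommRingCat.ofHom (φT (A := A)))) := by
  rw [show r I X = pullback.fst _ _ from pullback.lift_fst _ _ _]
  exact IsPullback.of_hasPullback _ _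

theorem app_scalR (V : (XR I X).Opens) (s : Rees I) :
    (hT I X).app V (scal (gR I X) V s) = scal (gT X) (hT I X ⁻¹ᵁ V) (ψ I s) := by
  have hw : hT I X ≫ gR I X = gT X ≫ Spec.map (CommRingCat.ofHom (ψ I)) := pullback.lift_snd _ _ _
  have : ((Scheme.ΓSpecIso (CommRingCat.of (Rees I))).inv ≫ (gR I X).appLE ⊤ V le_top) ≫ (hT I X).app V =
      CommRingCat.ofHom (ψ I) ≫ (Scheme.ΓSpecIso (CommRingCat.of (Polynomial A))).inv ≫
        (gT X).appLE ⊤ (hT I X ⁻¹ᵁ V) le_top := by
    rw [Scheme.ΓSpecIso_inv_naturality_assoc, Category.assoc, Scheme.Hom.app_eq_appLE,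
      Scheme.Hom.appTop, Scheme.Hom.app_eq_appLE (Spec.map (CommRingCat.ofHom (ψ I))) (U := ⊤)]
    congr 1
    erw [Scheme.Hom.appLE_comp_appLE, Scheme.Hom.appLE_comp_appLE]
    simp only [hw]
  exact ConcreteCategory.congr_hom this s

variable {X} (M : X.Modules)

/-- `r^* M`. -/
noncomputable abbrev Nt : (XT A X).Modules := (Scheme.Modules.pullback (r I X)).obj M

/-- The unit of `r`, read through `q` and `h`. -/
noncomputable def unitT :
    M ⟶ (Scheme.Modules.pushforward (q I X)).obj ((Scheme.Modules.pushforward (hT I X)).obj (Nt I M)) :=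
  (Scheme.Modules.pullbackPushforwardAdjunction (r I X)).unit.app M ≫
    (Scheme.Modules.pushforwardComp (hT I X) (q I X)).inv.app (Nt I M)

theorem unitT_app (U : X.Opens) (m : Γ(M, U)) :
    (unitT I M).app U m = OmegaSh.pullSect (r I X) M U m := rfl

/-- The comparison `q^* M → h_* r^* M`. -/
noncomputable def η :
    (Scheme.Modules.pullback (q I X)).obj M ⟶ (Scheme.Modules.pushforward (hT I X)).obj (Nt I M) :=
  ((Scheme.Modules.pullbackPushforwardAdjunction (q I X)).homEquiv _ _).symm (unitT I M)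

theorem η_pullSect (U : X.Opens) (m : Γ(M, U)) :
    (η I M).app (q I X ⁻¹ᵁ U) (OmegaSh.pullSect (q I X) M U m) = OmegaSh.pullSect (r I X) M U m := by
  have h := ((Scheme.Modules.pullbackPushforwardAdjunction (q I X)).homEquiv_unit M _ (η I M)).symm.trans
    (((Scheme.Modules.pullbackPushforwardAdjunction (q I X)).homEquiv _ _).apply_symm_apply (unitT I M))
  exact congr($(congr(Scheme.Modules.Hom.app $h U)) m)

theorem η_smul (U : X.Opens) (s : Rees I) (m : Γ(M, U)) :
    (η I M).app (q I X ⁻¹ᵁ U) (scal (gR I X) (q I X ⁻¹ᵁ U) s • OmegaSh.pullSect (q I X) M U m) =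
      (show Γ((Scheme.Modules.pushforward (hT I X)).obj (Nt I M), q I X ⁻¹ᵁ U) from
        (scal (gT X) (r I X ⁻¹ᵁ U) (ψ I s) • OmegaSh.pullSect (r I X) M U m :
          Γ(Nt I M, r I X ⁻¹ᵁ U))) := by
  rw [Scheme.Modules.Hom.app_smul, η_pullSect]
  show (show Γ(XT A X, r I X ⁻¹ᵁ U) from (hT I X).app (q I X ⁻¹ᵁ U) (scal (gR I X) (q I X ⁻¹ᵁ U) s)) •
    OmegaSh.pullSect (r I X) M U m = _
  rw [app_scalR]
  rfl

/-- The module of the Rees scheme. -/
noncomputable abbrev M' : (XR I X).Modules := Abelian.image (η I M)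

/-- `q_* M'`. -/
noncomputable abbrev T : X.Modules := (Coh.push (q I X)).obj (M' I M)

/-- The inclusion of `q_* M'`. -/
noncomputable def J :
    T I M ⟶ (Scheme.Modules.pushforward (q I X)).obj ((Scheme.Modules.pushforward (hT I X)).obj (Nt I M)) :=
  (Coh.push (q I X)).map (Abelian.image.ι (η I M))

instance mono_J : Mono (J I M) := inferInstanceAs (Mono ((Coh.push (q I X)).map (Abelian.image.ι (η I M))))

/-- The action of the Rees algebra. -/
noncomputable def act (s : Rees I) : T I M ⟶ T I M :=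
  (Coh.push (q I X)).map (Formal.smulModΓ (M' I M) (glob (gR I X) s))

theorem act_J (s : Rees I) (U : X.Opens) (z : Γ(T I M, U)) :
    (J I M).app U ((act I M s).app U z) =
      (show Γ((Scheme.Modules.pushforward (q I X)).obj ((Scheme.Modules.pushforward (hT I X)).obj (Nt I M)), U) from
        (scal (gT X) (r I X ⁻¹ᵁ U) (ψ I s) • (show Γ(Nt I M, r I X ⁻¹ᵁ U) from (J I M).app U z) :
          Γ(Nt I M, r I X ⁻¹ᵁ U))) := by
  show (Abelian.image.ι (η I M)).app (q I X ⁻¹ᵁ U)
    (scal (gR I X) (q I X ⁻¹ᵁ U) s • (show Γ(M' I M, q I X ⁻¹ᵁ U) from z)) = _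
  rw [Scheme.Modules.Hom.app_smul]
  show (show Γ(XT A X, r I X ⁻¹ᵁ U) from (hT I X).app (q I X ⁻¹ᵁ U) (scal (gR I X) (q I X ⁻¹ᵁ U) s)) •
    (show Γ(Nt I M, r I X ⁻¹ᵁ U) from (Abelian.image.ι (η I M)).app (q I X ⁻¹ᵁ U) z) = _
  rw [app_scalR]
  rfl

/-- `x ↦ t^n ⊗ x`. -/
noncomputable def φn (n : ℕ) :
    M ⟶ (Scheme.Modules.pushforward (q I X)).obj ((Scheme.Modules.pushforward (hT I X)).obj (Nt I M)) :=
  unitT I M ≫ (Scheme.Modules.pushforward (q I X)).map ((Scheme.Modules.pushforward (hT I X)).map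
    (Formal.smulModΓ (Nt I M) (glob (gT X) (Polynomial.X ^ n))))

theorem φn_app (n : ℕ) (U : X.Opens) (m : Γ(M, U)) :
    (φn I M n).app U m =
      (show Γ((Scheme.Modules.pushforward (q I X)).obj ((Scheme.Modules.pushforward (hT I X)).obj (Nt I M)), U) from
        (scal (gT X) (r I X ⁻¹ᵁ U) (Polynomial.X ^ n) • OmegaSh.pullSect (r I X) M U m :
          Γ(Nt I M, r I X ⁻¹ᵁ U))) := rfl

theorem scalT_smul (U : X.Opens) (a : A) (m : Γ(M, U)) :
    OmegaSh.pullSect (r I X) M U (scal (X ↘ Spec (CommRingCat.of A)) U a • m) =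
      scal (gT X) (r I X ⁻¹ᵁ U) (φT a) • OmegaSh.pullSect (r I X) M U m := by
  rw [OmegaSh.pullSect_smul, app_scal (sqT I X)]

/-- The element `a t^n`. -/
noncomputable def mon (n : ℕ) (a : A) (ha : a ∈ I ^ n) : Rees I :=
  ⟨Polynomial.monomial n a, reesAlgebra.monomial_mem.2 ha⟩

theorem exists_φn_lift (n : ℕ) :
    (Formal2.idealPowModι I n M ≫ φn I M n) ≫ cokernel.π (J I M) = 0 := by
  refine idealPowMod_hom_ext I n M _ _ fun a ha => ?_
  rw [comp_zero, ← Category.assoc, ← Category.assoc, mulTo_ι]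
  let e : M ⟶ T I M :=
    (Scheme.Modules.pullbackPushforwardAdjunction (q I X)).unit.app M ≫
      (Coh.push (q I X)).map (Formal.smulModΓ _ (glob (gR I X) (mon I n a ha)) ≫ Abelian.factorThruImage (η I M))
  have hfac : Formal.smulMod A M a ≫ φn I M n = e ≫ J I M := by
    refine hom_ext_sections _ _ fun U m => ?_
    show (φn I M n).app U ((Formal.smulMod A M a).app U m) =
      (Abelian.image.ι (η I M)).app (q I X ⁻¹ᵁ U) ((Abelian.factorThruImage (η I M)).app (q I X ⁻¹ᵁ U)
        (scal (gR I X) (q I X ⁻¹ᵁ U) (mon I n a ha) • OmegaSh.pullSect (q I X) M U m))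
    rw [smulMod_app, φn_app, scalT_smul]
    refine Eq.trans ?_ ((congr($(congr(Scheme.Modules.Hom.app $(Abelian.image.fac (η I M)) (q I X ⁻¹ᵁ U))) _)).trans
      (η_smul I M U (mon I n a ha) m)).symm
    show (_ • (_ • _) : Γ(Nt I M, r I X ⁻¹ᵁ U)) = _ • _
    rw [smul_smul, ← map_mul]
    congr 2
    show Polynomial.X ^ n * Polynomial.C a = Polynomial.monomial n a
    rw [Polynomial.X_pow_mul, Polynomial.C_mul_X_pow_eq_monomial]
  rw [hfac, Category.assoc, cokernel.condition, comp_zero]

/-- The inclusion of `I^n M` in degree `n`. -/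
noncomputable def ι (n : ℕ) : Formal2.idealPowMod I n M ⟶ T I M :=
  Abelian.monoLift (J I M) (Formal2.idealPowModι I n M ≫ φn I M n) (exists_φn_lift I M n)

theorem ι_J (n : ℕ) : ι I M n ≫ J I M = Formal2.idealPowModι I n M ≫ φn I M n :=
  Abelian.monoLift_comp _ _ _

theorem ι_act (i k : ℕ) (a : A) (ha : a ∈ I ^ i) (ha' : a ∈ I ^ (i + k - k)) :
    ι I M k ≫ act I M (mon I i a ha) = mulP I k (i + k) a ha' M ≫ ι I M (i + k) := by
  rw [← cancel_mono (J I M), Category.assoc (mulP I k (i + k) a ha' M), ι_J,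
    ← Category.assoc (mulP I k (i + k) a ha' M),
    mulP_ι, Category.assoc, Category.assoc]
  refine hom_ext_sections _ _ fun U y => ?_
  show (J I M).app U ((act I M _).app U ((ι I M k).app U y)) =
    (φn I M (i + k)).app U ((Formal.smulMod A M a).app U ((Formal2.idealPowModι I k M).app U y))
  rw [act_J, show (J I M).app U ((ι I M k).app U y) = (φn I M k).app U ((Formal2.idealPowModι I k M).app U y) from
    congr($(congr(Scheme.Modules.Hom.app $(ι_J I M k) U)) y), φn_app, φn_app, smulMod_app, scalT_smul]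
  show (_ • (_ • _) : Γ(Nt I M, r I X ⁻¹ᵁ U)) = _ • (_ • _)
  rw [smul_smul, smul_smul, ← map_mul, ← map_mul]
  congr 2
  show Polynomial.monomial i a * Polynomial.X ^ k = Polynomial.X ^ (i + k) * Polynomial.C a
  rw [Polynomial.X_pow_mul, Polynomial.C_mul_X_pow_eq_monomial, Polynomial.monomial_mul_X_pow]

theorem act_add (s t : Rees I) : act I M (s + t) = act I M s + act I M t := by
  refine hom_ext_sections _ _ fun U z => ?_
  show scal (gR I X) (q I X ⁻¹ᵁ U) (s + t) • (show Γ(M' I M, q I X ⁻¹ᵁ U) from z) = _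
  rw [map_add, add_smul]
  rfl

theorem act_mul (s t : Rees I) : act I M (s * t) = act I M t ≫ act I M s := by
  refine hom_ext_sections _ _ fun U z => ?_
  show scal (gR I X) (q I X ⁻¹ᵁ U) (s * t) • (show Γ(M' I M, q I X ⁻¹ᵁ U) from z) = _
  rw [map_mul, mul_smul]
  rfl

theorem act_one : act I M 1 = 𝟙 _ := by
  refine hom_ext_sections _ _ fun U z => ?_
  show scal (gR I X) (q I X ⁻¹ᵁ U) 1 • (show Γ(M' I M, q I X ⁻¹ᵁ U) from z) = _
  rw [map_one, one_smul]
  rfl

end construction

end Groth.Agent.LeadFF
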