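import Groth.Agent.H8Props.RelFP.PullSections
import Groth.Prelude.Def_Coh

/-!
# Sections of the inverse image along a base change of affine bases

For `X` over `Spec A`, a ring map `φ : A → S` and `q : X ×_A S → X`: over an affine open `U` of `X` the
sections of `q^* M` are `S ⊗_A M(U)`.
-/

set_option autoImplicit false
set_option linter.style.haveILetI false
set_option linter.unusedSectionVars false

universe u

open AlgebraicGeometry CategoryTheory Limits TopologicalSpace Opposite TensorProduct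

namespace Groth.Agent.LeadFF

variable {A : Type u} [CommRing A] {X : Scheme.{u}} (g : X ⟶ Spec (CommRingCat.of A))

/-- Scalars on global sections (this is `Coh.toGlobal`). -/
noncomputable def glob : A →+* Γ(X, ⊤) := g.appTop.hom.comp (Scheme.ΓSpecIso (CommRingCat.of A)).inv.hom

theorem glob_eq : (glob g : A →+* Γ(X, ⊤)) = Coh.toGlobal g := rfl

/-- Scalars on sections. -/
noncomputable def scal (U : X.Opens) : A →+* Γ(X, U) :=
  (X.presheaf.map (homOfLE (le_top : U ≤ ⊤)).op).hom.comp (glob g)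

theorem map_scal {U V : X.Opens} (h : V ≤ U) (a : A) :
    X.presheaf.map (homOfLE h).op (scal g U a) = scal g V a := by
  show X.presheaf.map _ (X.presheaf.map _ (glob g a)) = X.presheaf.map _ (glob g a)
  rw [← ConcreteCategory.comp_apply, ← Functor.map_comp]
  rfl

theorem scal_eq_appLE (U : X.Opens) :
    CommRingCat.ofHom (scal g U) = (Scheme.ΓSpecIso (CommRingCat.of A)).inv ≫ g.appLE ⊤ U le_top := rfl

variable {g} {S : Type u} [CommRing S] {φ : A →+* S} {X' : Scheme.{u}} {q : X' ⟶ X}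
  {g' : X' ⟶ Spec (CommRingCat.of S)} (hsq : IsPullback q g' g (Spec.map (CommRingCat.ofHom φ)))

include hsq

theorem app_scal (U : X.Opens) (a : A) : q.app U (scal g U a) = scal g' (q ⁻¹ᵁ U) (φ a) := by
  have : ((Scheme.ΓSpecIso (CommRingCat.of A)).inv ≫ g.appLE ⊤ U le_top) ≫ q.app U =
      CommRingCat.ofHom φ ≫ (Scheme.ΓSpecIso (CommRingCat.of S)).inv ≫ g'.appLE ⊤ (q ⁻¹ᵁ U) le_top := by
    rw [Scheme.ΓSpecIso_inv_naturality_assoc, Category.assoc, Scheme.Hom.app_eq_appLE,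
      Scheme.Hom.appTop, Scheme.Hom.app_eq_appLE (Spec.map (CommRingCat.ofHom φ)) (U := ⊤)]
    congr 1
    erw [Scheme.Hom.appLE_comp_appLE, Scheme.Hom.appLE_comp_appLE]
    simp only [hsq.w]
  exact ConcreteCategory.congr_hom this a

theorem isAffineHom_fst : IsAffineHom q :=
  MorphismProperty.of_isPullback (P := @IsAffineHom) hsq.flip inferInstance

theorem isPushout_scal {U : X.Opens} (hU : IsAffineOpen U) :
    IsPushout (CommRingCat.ofHom (scal g U)) (CommRingCat.ofHom φ) (q.app U)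
      (CommRingCat.ofHom (scal g' (q ⁻¹ᵁ U))) := by
  have hY : q ⁻¹ᵁ U = q ⁻¹ᵁ U ⊓ g' ⁻¹ᵁ (⊤ : (Spec (CommRingCat.of S)).Opens) := by simp
  haveI := isIso_pushoutSection_of_isAffineOpen hsq (US := ⊤) (UT := ⊤) (UX := U) (UY := q ⁻¹ᵁ U)
    le_top le_top hY (isAffineOpen_top _) (isAffineOpen_top _) hU
  refine ((isIso_pushoutSection_iff hsq le_top le_top hY).mp inferInstance).of_iso
    (Scheme.ΓSpecIso (CommRingCat.of A)) (Iso.refl _) (Scheme.ΓSpecIso (CommRingCat.of S))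
    (Iso.refl _) ?_ ?_ ?_ ?_
  · show g.appLE ⊤ U le_top ≫ 𝟙 _ =
      (Scheme.ΓSpecIso (CommRingCat.of A)).hom ≫ (Scheme.ΓSpecIso (CommRingCat.of A)).inv ≫ g.appLE ⊤ U le_top
    rw [Category.comp_id, Iso.hom_inv_id_assoc]
  · rw [← Scheme.ΓSpecIso_naturality, Scheme.Hom.appTop, Scheme.Hom.app_eq_appLE]
    rfl
  · show q.appLE U (q ⁻¹ᵁ U) _ ≫ 𝟙 _ = 𝟙 _ ≫ q.app U
    rw [Category.comp_id, Category.id_comp, Scheme.Hom.app_eq_appLE]
  · show g'.appLE ⊤ (q ⁻¹ᵁ U) _ ≫ 𝟙 _ = (Scheme.ΓSpecIso (CommRingCat.of S)).hom ≫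
      (Scheme.ΓSpecIso (CommRingCat.of S)).inv ≫ g'.appLE ⊤ (q ⁻¹ᵁ U) le_top
    rw [Category.comp_id, Iso.hom_inv_id_assoc]

variable (M : X.Modules)

/-- Over an affine open, functionals on `S` give maps from the sections of `q^* M` to those of `M`;
the sections are spanned by the scalar multiples of the inverse images. -/
theorem exists_sections (hM : Coh.IsQCoh M) {U : X.Opens} (hU : IsAffineOpen U) :
    (∀ (P : Γ((Scheme.Modules.pullback q).obj M, q ⁻¹ᵁ U) → Prop), P 0 → (∀ x y, P x → P y → P (x + y)) →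
      (∀ (s : S) (m : Γ(M, U)), P (scal g' (q ⁻¹ᵁ U) s • OmegaSh.pullSect q M U m)) → ∀ z, P z) ∧
    ∀ ℓ : S → A, (∀ x y, ℓ (x + y) = ℓ x + ℓ y) → (∀ a x, ℓ (φ a * x) = a * ℓ x) →
      ∃ L : Γ((Scheme.Modules.pullback q).obj M, q ⁻¹ᵁ U) →+ Γ(M, U),
        ∀ (s : S) (m : Γ(M, U)), L (scal g' (q ⁻¹ᵁ U) s • OmegaSh.pullSect q M U m) = scal g U (ℓ s) • m := by
  haveI := isAffineHom_fst hsq
  let B := Γ(X, U)
  let B' := Γ(X', q ⁻¹ᵁ U)
  let N := Γ((Scheme.Modules.pullback q).obj M, q ⁻¹ᵁ U)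
  letI : Algebra A B := (scal g U).toAlgebra
  letI : Algebra A S := φ.toAlgebra
  letI : Algebra B B' := (q.app U).hom.toAlgebra
  letI : Algebra S B' := (scal g' (q ⁻¹ᵁ U)).toAlgebra
  letI : Algebra A B' := ((scal g' (q ⁻¹ᵁ U)).comp φ).toAlgebra
  haveI : IsScalarTower A B B' := .of_algebraMap_eq fun a => (app_scal hsq U a).symm
  haveI : IsScalarTower A S B' := .of_algebraMap_eq fun _ => rfl
  haveI hpo : Algebra.IsPushout A B S B' :=
    CommRingCat.isPushout_iff_isPushout.mp (by simpa using! isPushout_scal hsq hU)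
  haveI : Algebra.IsPushout A S B B' := hpo.symm
  letI : Module A Γ(M, U) := Module.compHom _ (scal g U)
  haveI : IsScalarTower A B Γ(M, U) := .of_algebraMap_smul fun _ _ => rfl
  have h : q ⁻¹ᵁ U ≤ q ⁻¹ᵁ U := le_rfl
  have happ : q.appLE U (q ⁻¹ᵁ U) h = q.app U := (Scheme.Hom.app_eq_appLE q).symm
  letI : Module B N := Module.compHom _ (q.appLE U (q ⁻¹ᵁ U) h).hom
  letI alg : Algebra B B' := (q.appLE U (q ⁻¹ᵁ U) h).hom.toAlgebra
  haveI : IsScalarTower B B' N := .of_algebraMap_smul fun _ _ => rfl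
  haveI : IsScalarTower A B B' := .of_algebraMap_eq fun a => by
    show _ = q.appLE U (q ⁻¹ᵁ U) h (scal g U a)
    rw [happ]; exact (app_scal hsq U a).symm
  haveI : Algebra.IsPushout A S B B' := by
    haveI : Algebra.IsPushout A B S B' := CommRingCat.isPushout_iff_isPushout.mp (by
      have := isPushout_scal hsq hU
      rw [← happ] at this
      exact this)
    exact Algebra.IsPushout.symm inferInstance
  have hbc : IsBaseChange B' (H8Props.PullSections.pullLin q M h) :=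
    H8Props.PullSections.isBaseChange_pullLin q M h hM hU (hU.preimage q)
  let e₁ : B' ⊗[B] Γ(M, U) ≃ₗ[B'] N := hbc.equiv
  let e₂ := Algebra.IsPushout.cancelBaseChangeAux A S B B' Γ(M, U)
  have he : ∀ (s : S) (m : Γ(M, U)), e₁ (e₂.symm (s ⊗ₜ m)) = scal g' (q ⁻¹ᵁ U) s • OmegaSh.pullSect q M U m := by
    intro s m
    rw [Algebra.IsPushout.cancelBaseChangeAux_symm_tmul, IsBaseChange.equiv_tmul]
    refine congrArg (scal g' (q ⁻¹ᵁ U) s • ·) ?_
    show ((Scheme.Modules.pullback q).obj M).presheaf.map (homOfLE h).op (OmegaSh.pullSect q M U m) = _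
    rw [show (homOfLE h).op = 𝟙 _ from rfl, CategoryTheory.Functor.map_id]
    rfl
  refine ⟨fun P h0 hadd hgen z => ?_, fun ℓ hℓ hℓa => ?_⟩
  · obtain ⟨w, rfl⟩ := e₁.surjective z
    obtain ⟨w, rfl⟩ := e₂.symm.surjective w
    induction w using TensorProduct.induction_on with
    | zero => rw [map_zero, map_zero]; exact h0
    | add x y hx hy => rw [map_add, map_add]; exact hadd _ _ hx hy
    | tmul s m => rw [he]; exact hgen s m
  · let ℓ' : S →ₗ[A] A :=
      { toFun := ℓ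
        map_add' := hℓ
        map_smul' := fun a x => hℓa a x }
    let c : S ⊗[A] Γ(M, U) →ₗ[A] Γ(M, U) := (TensorProduct.lid A Γ(M, U)).toLinearMap.comp (ℓ'.rTensor Γ(M, U))
    refine ⟨c.toAddMonoidHom.comp (e₂.toAddMonoidHom.comp e₁.symm.toAddMonoidHom), fun s m => ?_⟩
    rw [← he]
    show c (e₂ (e₁.symm (e₁ (e₂.symm (s ⊗ₜ m))))) = _
    rw [LinearEquiv.symm_apply_apply, LinearEquiv.apply_symm_apply]
    show TensorProduct.lid A Γ(M, U) (ℓ s ⊗ₜ m) = _
    rw [TensorProduct.lid_tmul]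
    rfl

end Groth.Agent.LeadFF
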