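import Groth.Agent.LeadFF.Geom
import Groth.Agent.H10Coh.BaseChange
import Groth.Agent.H29Fitt.PullbackQCoh
import Groth.Agent.H17.PrinOmega

/-!
# The coefficient maps of the Rees module

The degree-`n` coefficient gives `q_* h_* r^* M → M`; on `q_* M'` it lands in `I^n M`.
-/

set_option autoImplicit false
set_option linter.style.haveILetI false
set_option linter.unusedSectionVars false

universe u

open AlgebraicGeometry CategoryTheory CategoryTheory.Limits TopologicalSpace Opposite

namespace Groth.Agent.LeadFF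

variable {A : Type u} [CommRing A] (I : Ideal A) {X : Scheme.{u}} [X.Over (Spec (CommRingCat.of A))]
  (M : X.Modules)

/-- `q_* h_* r^* M`. -/
noncomputable abbrev Tt : X.Modules :=
  (Scheme.Modules.pushforward (q I X)).obj ((Scheme.Modules.pushforward (hT I X)).obj (Nt I M))

/-- A section of `r^* M` over `r⁻¹U` as a section of `q_* h_* r^* M`. -/
noncomputable def toTt (U : X.Opens) (z : Γ(Nt I M, r I X ⁻¹ᵁ U)) : Γ(Tt I M, U) := z

theorem exists_coef (hM : Coh.IsQCoh M) (n : ℕ) {U : X.Opens} (hU : IsAffineOpen U) :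
    ∃ L : Γ(Tt I M, U) →ₗ[Γ(X, U)] Γ(M, U), ∀ (s : Polynomial A) (m : Γ(M, U)),
      L (toTt I M U (scal (gT X) (r I X ⁻¹ᵁ U) s • OmegaSh.pullSect (r I X) M U m)) =
        scal (X ↘ Spec (CommRingCat.of A)) U (s.coeff n) • m := by
  obtain ⟨hind, hfun⟩ := exists_sections (sqT I X) M hM hU
  obtain ⟨L, hL⟩ := hfun (fun s => s.coeff n) (fun x y => Polynomial.coeff_add x y n)
    (fun a x => Polynomial.coeff_C_mul x)
  refine ⟨{ toFun := fun z => L z, map_add' := fun x y => L.map_add x y, map_smul' := fun b z => ?_ }, hL⟩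
  show L ((r I X).app U b • (show Γ(Nt I M, r I X ⁻¹ᵁ U) from z)) = b • L z
  refine hind (fun z => L ((r I X).app U b • z) = b • L z) ?_ ?_ ?_ z
  · show L ((r I X).app U b • 0) = b • L 0
    rw [smul_zero, map_zero, smul_zero]
  · intro x y hx hy
    show L ((r I X).app U b • (x + y)) = b • L (x + y)
    rw [smul_add, map_add, map_add, smul_add, hx, hy]
  · intro s m
    show L ((r I X).app U b • (_ • _)) = b • L (_ • _)
    rw [smul_comm, ← OmegaSh.pullSect_smul, hL, hL, smul_comm]

theorem exists_coefMap (hM : Coh.IsQCoh M) (n : ℕ) : ∃ α : Tt I M ⟶ M, ∀ (U : X.Opens) (hU : IsAffineOpen U)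
    (z : Γ(Tt I M, U)), α.app U z = (exists_coef I M hM n hU).choose z :=
  H17.PrinOmega.exists_hom_of_basis (Tt I M) M IsAffineOpen
    (fun W x hx => by
      obtain ⟨V, hV, hxV, hle⟩ := exists_isAffineOpen_mem_and_subset (U := W) hx
      exact ⟨V, hV, hxV, hle⟩)
    (fun U hU => (exists_coef I M hM n hU).choose)
    (fun U V hU hV e z => by
      set LU := (exists_coef I M hM n hU).choose with hLU
      set LV := (exists_coef I M hM n hV).choose with hLV
      refine (exists_sections (sqT I X) M hM hU).1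
        (fun z => LV ((Tt I M).presheaf.map (homOfLE e).op (toTt I M U z)) =
          M.presheaf.map (homOfLE e).op (LU (toTt I M U z))) ?_ ?_ ?_ z
      · show LV ((Tt I M).presheaf.map (homOfLE e).op (0 : Γ(Tt I M, U))) = M.presheaf.map _ (LU 0)
        rw [map_zero, map_zero, map_zero, map_zero]
      · intro x y hx hy
        show LV ((Tt I M).presheaf.map (homOfLE e).op (toTt I M U x + toTt I M U y)) =
          M.presheaf.map (homOfLE e).op (LU (toTt I M U x + toTt I M U y))
        rw [map_add, map_add, map_add, map_add, hx, hy]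
      · intro s m
        have hgen : (Tt I M).presheaf.map (homOfLE e).op
            (toTt I M U (scal (gT X) (r I X ⁻¹ᵁ U) s • OmegaSh.pullSect (r I X) M U m)) =
            toTt I M V (scal (gT X) (r I X ⁻¹ᵁ V) s • OmegaSh.pullSect (r I X) M V
              (M.presheaf.map (homOfLE e).op m)) := by
          show (Nt I M).presheaf.map (homOfLE ((r I X).preimage_mono e)).op
            (scal (gT X) (r I X ⁻¹ᵁ U) s • OmegaSh.pullSect (r I X) M U m) = _ • _
          rw [Scheme.Modules.map_smul, map_scal, ← OmegaSh.pullSect_map]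
        show LV _ = M.presheaf.map _ (LU _)
        rw [hgen, hLU, hLV, (exists_coef I M hM n hU).choose_spec, (exists_coef I M hM n hV).choose_spec,
          Scheme.Modules.map_smul, map_scal])

/-- The degree-`n` coefficient. -/
noncomputable def coefMap (hM : Coh.IsQCoh M) (n : ℕ) : Tt I M ⟶ M := (exists_coefMap I M hM n).choose

theorem coefMap_app (hM : Coh.IsQCoh M) (n : ℕ) {U : X.Opens} (hU : IsAffineOpen U) (s : Polynomial A)
    (m : Γ(M, U)) :
    (coefMap I M hM n).app U (toTt I M U (scal (gT X) (r I X ⁻¹ᵁ U) s • OmegaSh.pullSect (r I X) M U m)) =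
      scal (X ↘ Spec (CommRingCat.of A)) U (s.coeff n) • m :=
  ((exists_coefMap I M hM n).choose_spec U hU _).trans
    ((exists_coef I M hM n hU).choose_spec s m)

theorem φn_coefMap (hM : Coh.IsQCoh M) (k n : ℕ) :
    φn I M k ≫ coefMap I M hM n = if k = n then 𝟙 M else 0 := by
  refine hom_ext_affine _ _ fun U hU m => ?_
  refine (coefMap_app I M hM n hU (Polynomial.X ^ k) m).trans ?_
  rw [Polynomial.coeff_X_pow]
  by_cases h : k = n
  · rw [if_pos h, if_pos h.symm, map_one, one_smul]
    rfl
  · rw [if_neg h, if_neg (fun h' => h h'.symm), map_zero, zero_smul]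
    rfl

theorem isQCoh_qpull (hM : Coh.IsQCoh M) : Coh.IsQCoh ((Scheme.Modules.pullback (q I X)).obj M) :=
  H29Fitt.isQCoh_pullback _ M hM

theorem isQCoh_M' (hM : Coh.IsQCoh M) : Coh.IsQCoh (M' I M) := by
  haveI : IsAffineHom (hT I X) := by
    haveI := isAffineHom_fst (sqR I X)
    haveI := isAffineHom_fst (sqT I X)
    exact MorphismProperty.of_postcomp (W := @IsAffineHom) (W' := @IsSeparated) (hT I X) (q I X)
      inferInstance inferInstance
  haveI : (Nt I M).IsQuasicoherent := H29Fitt.isQCoh_pullback _ M hM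
  haveI := H10Coh.isQuasicoherent_pushforward_of_isAffineHom (hT I X) (Nt I M)
  haveI : ((Scheme.Modules.pullback (q I X)).obj M).IsQuasicoherent := isQCoh_qpull I M hM
  haveI := H10Coh.isQuasicoherent_cokernel (η I M)
  exact H10Coh.isQuasicoherent_kernel (cokernel.π (η I M))

/-- Induction over the sections of `q_* M'` on an affine open. -/
theorem T_induction (hM : Coh.IsQCoh M) {U : X.Opens} (hU : IsAffineOpen U) (P : Γ(T I M, U) → Prop)
    (h0 : P 0) (hadd : ∀ x y, P x → P y → P (x + y))
    (hgen : ∀ (s : Rees I) (m : Γ(M, U)) (z : Γ(T I M, U)),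
      (J I M).app U z = toTt I M U (scal (gT X) (r I X ⁻¹ᵁ U) (ψ I s) • OmegaSh.pullSect (r I X) M U m) → P z)
    (z : Γ(T I M, U)) : P z := by
  haveI := isAffineHom_fst (sqR I X)
  haveI : ((Scheme.Modules.pullback (q I X)).obj M).IsQuasicoherent := isQCoh_qpull I M hM
  haveI : (M' I M).IsQuasicoherent := isQCoh_M' I M hM
  obtain ⟨w, rfl⟩ := H10Coh.surjective_app_of_epi (Abelian.factorThruImage (η I M)) (hU.preimage (q I X)) z
  refine (exists_sections (sqR I X) M hM hU).1
    (fun w => P ((Abelian.factorThruImage (η I M)).app (q I X ⁻¹ᵁ U) w)) ?_ ?_ ?_ w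
  · show P ((Abelian.factorThruImage (η I M)).app (q I X ⁻¹ᵁ U) 0)
    rw [map_zero]; exact h0
  · intro x y hx hy
    show P ((Abelian.factorThruImage (η I M)).app (q I X ⁻¹ᵁ U) (x + y))
    rw [map_add]; exact hadd _ _ hx hy
  · intro s m
    refine hgen s m _ ?_
    exact (congr($(congr(Scheme.Modules.Hom.app $(Abelian.image.fac (η I M)) (q I X ⁻¹ᵁ U))) _)).trans
      (η_smul I M U s m)

theorem J_coefMap_π (hM : Coh.IsQCoh M) (n : ℕ) :
    (J I M ≫ coefMap I M hM n) ≫ Formal.modPowπ I n M = 0 := by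
  refine hom_ext_affine _ _ fun U hU z => ?_
  refine T_induction I M hM hU (fun z => ((J I M ≫ coefMap I M hM n) ≫ Formal.modPowπ I n M).app U z = 0)
    (map_zero _) (fun x y hx hy => by show _ = (0 : _); rw [map_add, hx, hy, add_zero]) (fun s m w hw => ?_) z
  show (Formal.modPowπ I n M).app U ((coefMap I M hM n).app U ((J I M).app U w)) = 0
  rw [hw, coefMap_app I M hM n hU]
  exact congr($(congr(Scheme.Modules.Hom.app $(smulMod_π I (s.2 n) M) U)) m)

/-- The projection to `I^n M`. -/
noncomputable def π (hM : Coh.IsQCoh M) (n : ℕ) : T I M ⟶ Formal2.idealPowMod I n M :=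
  kernel.lift _ (J I M ≫ coefMap I M hM n) (J_coefMap_π I M hM n)

theorem π_ι' (hM : Coh.IsQCoh M) (n : ℕ) :
    π I M hM n ≫ Formal2.idealPowModι I n M = J I M ≫ coefMap I M hM n :=
  kernel.lift_ι _ _ _

theorem ι_π_self (hM : Coh.IsQCoh M) (n : ℕ) : ι I M n ≫ π I M hM n = 𝟙 _ := by
  rw [← cancel_mono (Formal2.idealPowModι I n M), Category.assoc, π_ι', ← Category.assoc, ι_J, Category.assoc,
    φn_coefMap, if_pos rfl, Category.comp_id, Category.id_comp]

theorem ι_π_ne (hM : Coh.IsQCoh M) {k n : ℕ} (h : k ≠ n) : ι I M k ≫ π I M hM n = 0 := by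
  rw [← cancel_mono (Formal2.idealPowModι I n M), Category.assoc, π_ι', ← Category.assoc, ι_J, Category.assoc,
    φn_coefMap, if_neg h, comp_zero, zero_comp]

end Groth.Agent.LeadFF
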